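import Groth.Agent.SGA3cLib.DiagPoints
import Groth.Agent.Desc19b.Kummer
import Groth.Prelude.Def_TwC
import Groth.Prelude.Def_NonAbH2

/-!
# The Artin–Schreier map on the additive group
-/

set_option autoImplicit false
set_option linter.all false
set_option backward.isDefEq.respectTransparency.types false
set_option backward.isDefEq.respectTransparency false

universe u

open CategoryTheory CategoryTheory.Limits MonoidalCategory CartesianMonoidalCategory MonObj GrpObj AlgebraicGeometry
open Groth.Agent.SGA3cLib Polynomial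

noncomputable section

namespace Groth.Agent.ASFpqc

attribute [-instance] ULift.module ULift.smulLeft ULift.mulAction ULift.smulZeroClass ULift.distribSMul
  ULift.distribMulAction ULift.mulDistribMulAction ULift.smulWithZero ULift.mulActionWithZero

theorem faithfullyFlat_aeval (R : Type u) [CommRing R] [Nontrivial R] (p : ℕ) (hp : 1 < p) :
    (aeval (X - X ^ p : R[X]) : R[X] →ₐ[R] R[X]).toRingHom.FaithfullyFlat := by
  let g : R[X][X] := X ^ p - (X - C X)
  have hg : g.Monic := monic_X_pow_sub (by rw [degree_X_sub_C]; exact_mod_cast hp)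
  have hne : g.natDegree ≠ 0 := by
    rw [natDegree_sub_eq_left_of_natDegree_lt (by rw [natDegree_X_sub_C, natDegree_X_pow]; exact hp), natDegree_X_pow]
    omega
  have hroot : AdjoinRoot.root g ^ p - AdjoinRoot.root g + AdjoinRoot.of g X = 0 := by
    have h := AdjoinRoot.eval₂_root g
    simp only [g, eval₂_sub, eval₂_pow, eval₂_X, eval₂_C] at h
    linear_combination h
  let φ : AdjoinRoot g →+* R[X] := AdjoinRoot.lift (aeval (X - X ^ p : R[X])).toRingHom X (by
    simp [g, eval₂_sub])
  let ψ : R[X] →+* AdjoinRoot g := eval₂RingHom ((AdjoinRoot.of g).comp C) (AdjoinRoot.root g)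
  have h1 : φ.comp ψ = RingHom.id _ := Polynomial.ringHom_ext (fun a => by simp [φ, ψ]) (by simp [φ, ψ])
  have h2 : ψ.comp φ = RingHom.id _ := by
    refine Ideal.Quotient.ringHom_ext (Polynomial.ringHom_ext' (Polynomial.ringHom_ext (fun a => ?_) ?_) ?_)
    · show ψ (φ (AdjoinRoot.of g (C a))) = AdjoinRoot.of g (C a)
      simp [φ, ψ]
    · show ψ (φ (AdjoinRoot.of g X)) = AdjoinRoot.of g X
      simp [φ, ψ]
      linear_combination hroot.symm
    · show ψ (φ (AdjoinRoot.root g)) = AdjoinRoot.root g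
      simp [φ, ψ]
  let e : AdjoinRoot g ≃+* R[X] := RingEquiv.ofRingHom φ ψ h1 h2
  haveI := hg.free_adjoinRoot
  haveI : Nontrivial (AdjoinRoot g) := e.toEquiv.nontrivial
  haveI : Module.FaithfullyFlat R[X] (AdjoinRoot g) := inferInstance
  have heq : (aeval (X - X ^ p : R[X]) : R[X] →ₐ[R] R[X]).toRingHom = e.toRingHom.comp (AdjoinRoot.of g) :=
    RingHom.ext fun q => by
      show _ = φ (AdjoinRoot.of g q)
      exact (AdjoinRoot.lift_of _).symm
  rw [heq]
  refine RingHom.FaithfullyFlat.stableUnderComposition _ _ ?_ (RingHom.FaithfullyFlat.of_bijective e.bijective)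
  exact RingHom.faithfullyFlat_algebraMap_iff.2 inferInstance

variable (p : ℕ)

/-- The coordinate. -/
abbrev gen : SymmetricAlgebra (ULift.{u} ℤ) (ULift.{u} ℤ) :=
  SymmetricAlgebra.ι (ULift.{u} ℤ) (ULift.{u} ℤ) (ULift.up 1)

/-- `T ↦ T - T ^ p`. -/
def phi : SymmetricAlgebra (ULift.{u} ℤ) (ULift.{u} ℤ) →ₐ[ULift.{u} ℤ] SymmetricAlgebra (ULift.{u} ℤ) (ULift.{u} ℤ) :=
  SymmetricAlgebra.lift (LinearMap.toSpanSingleton _ _ (gen - gen ^ p))

theorem phi_gen : phi.{u} p gen = gen - gen ^ p := by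
  rw [phi, gen, SymmetricAlgebra.lift_ι_apply, LinearMap.toSpanSingleton_apply]
  exact one_smul (ULift.{u} ℤ) _

theorem faithfullyFlat_phi (hp : 1 < p) : (phi.{u} p).toRingHom.FaithfullyFlat := by
  let R := ULift.{u} ℤ
  let a : SymmetricAlgebra R R →ₐ[R] R[X] := SymmetricAlgebra.lift (LinearMap.toSpanSingleton _ _ X)
  let b : R[X] →ₐ[R] SymmetricAlgebra R R := aeval gen
  have ha : a gen = X := by
    show SymmetricAlgebra.lift (LinearMap.toSpanSingleton R R[X] X) (SymmetricAlgebra.ι R R (ULift.up 1)) = X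
    rw [SymmetricAlgebra.lift_ι_apply, LinearMap.toSpanSingleton_apply]
    exact one_smul (ULift.{u} ℤ) (X : R[X])
  have hab : a.comp b = AlgHom.id R R[X] := Polynomial.algHom_ext (by simp [b, ha])
  have hba : b.comp a = AlgHom.id R (SymmetricAlgebra R R) := SymmetricAlgebra.algHom_ext (LinearMap.ext_ring (by
    show b (a gen) = gen
    rw [ha]
    simp [b]))
  let e : SymmetricAlgebra R R ≃ₐ[R] R[X] := AlgEquiv.ofAlgHom a b hab hba
  have heq : (phi.{u} p) = (e.symm.toAlgHom.comp (aeval (X - X ^ p : R[X]))).comp e.toAlgHom := by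
    refine SymmetricAlgebra.algHom_ext (LinearMap.ext_ring ?_)
    show phi.{u} p gen = b (aeval (X - X ^ p : R[X]) (a gen))
    rw [phi_gen, ha]
    simp [b]
  rw [heq]
  exact RingHom.FaithfullyFlat.stableUnderComposition _ _ (RingHom.FaithfullyFlat.of_bijective e.bijective)
    (RingHom.FaithfullyFlat.stableUnderComposition _ _ (faithfullyFlat_aeval R p hp)
      (RingHom.FaithfullyFlat.of_bijective e.symm.bijective))

variable {S : Scheme.{u}}

/-- The scheme morphism `x ↦ x - x ^ p`. -/
abbrev asMap (S : Scheme.{u}) : Red.Ga S ⟶ Red.Ga S :=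
  (Over.pullback (IsTerminal.from specULiftZIsTerminal S)).map
    (Over.homMk (U := Red.GaZ.{u}) (V := Red.GaZ.{u}) (Spec.map (CommRingCat.ofHom (phi.{u} p).toRingHom)) (specULiftZIsTerminal.hom_ext _ _))

theorem gaFn_asMap {X : Over S} (x : X ⟶ Red.Ga S) :
    Red.gaFn (x ≫ asMap p S) = Red.gaFn x - Red.gaFn x ^ p := by
  have h := congrArg CommaMorphism.left (proj_map x (P := _) (Q := _)
    (Over.homMk (U := Red.GaZ.{u}) (V := Red.GaZ.{u}) (Spec.map (CommRingCat.ofHom (phi.{u} p).toRingHom)) (specULiftZIsTerminal.hom_ext _ _)))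
  have e : fn (x ≫ asMap p S) = (fn x).comp (phi.{u} p).toRingHom := by
    unfold fn
    rw [show (x ≫ asMap p S).left ≫ pullback.fst _ _ =
      (x.left ≫ pullback.fst _ _) ≫ Spec.map (CommRingCat.ofHom (phi.{u} p).toRingHom) from h,
      Scheme.Hom.comp_appTop, ← Category.assoc, ← Scheme.ΓSpecIso_inv_naturality]
    rfl
  rw [gaFn_eq_fn, gaFn_eq_fn, e]
  show fn x (phi.{u} p gen) = _
  rw [phi_gen, map_sub, map_pow]

theorem asMap_props (hp : 1 < p) :
    Flat (asMap.{u} p S).left ∧ Surjective (asMap.{u} p S).left ∧ LocallyOfFinitePresentation (asMap.{u} p S).left := by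
  obtain ⟨hfl, hsurj⟩ := (flat_and_surjective_SpecMap_iff (CommRingCat.ofHom (phi.{u} p).toRingHom)).mpr
    (faithfullyFlat_phi p hp)
  have hfp : LocallyOfFinitePresentation (Spec.map (CommRingCat.ofHom (phi.{u} p).toRingHom)) := by
    refine (HasRingHomProperty.Spec_iff (P := @LocallyOfFinitePresentation)).mpr ?_
    haveI : IsNoetherianRing (ULift.{u} ℤ) := isNoetherianRing_of_ringEquiv ℤ ULift.ringEquiv.symm
    haveI : Algebra.FiniteType (ULift.{u} ℤ) (SymmetricAlgebra (ULift.{u} ℤ) (ULift.{u} ℤ)) :=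
      Algebra.FiniteType.of_surjective (aeval gen.{u}) fun z => by
        refine SymmetricAlgebra.induction (ULift.{u} ℤ) (ULift.{u} ℤ) (motive := fun z => ∃ q, aeval gen.{u} q = z) (fun r => ⟨C r, aeval_C _ _⟩)
          (fun x => ⟨C x * Polynomial.X, ?_⟩) ?_ ?_ z
        · rw [map_mul, aeval_C, aeval_X, ← Algebra.smul_def, ← map_smul]
          congr 1
          exact mul_one x
        · rintro x y ⟨a, rfl⟩ ⟨b, rfl⟩; exact ⟨a * b, map_mul _ _ _⟩
        · rintro x y ⟨a, rfl⟩ ⟨b, rfl⟩; exact ⟨a + b, map_add _ _ _⟩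
    haveI : Algebra.FinitePresentation (ULift.{u} ℤ) (SymmetricAlgebra (ULift.{u} ℤ) (ULift.{u} ℤ)) :=
      Algebra.FinitePresentation.of_finiteType.mp inferInstance
    haveI : IsNoetherianRing (SymmetricAlgebra (ULift.{u} ℤ) (ULift.{u} ℤ)) :=
      Algebra.FiniteType.isNoetherianRing (ULift.{u} ℤ) _
    show RingHom.FinitePresentation (phi.{u} p).toRingHom
    refine RingHom.FinitePresentation.of_finiteType.mp ?_
    refine RingHom.FiniteType.of_comp_finiteType (f := algebraMap (ULift.{u} ℤ) _) ?_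
    rw [show (phi.{u} p).toRingHom.comp (algebraMap (ULift.{u} ℤ) _) = algebraMap _ _ from RingHom.ext (phi.{u} p).commutes]
    exact RingHom.finiteType_algebraMap.2 inferInstance
  exact ⟨MorphismProperty.overPullbackMap (P := @Flat) _ _ hfl,
    MorphismProperty.overPullbackMap (P := @Surjective) _ _ hsurj,
    MorphismProperty.overPullbackMap (P := @LocallyOfFinitePresentation) _ _ hfp⟩

end Groth.Agent.ASFpqc
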